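import Groth.Agent.H29Jac.Jacobian
import Groth.Agent.H29CurveDual.PencilUnique
import Groth.Agent.H29DoubleCover.Hyperelliptic
import Groth.Agent.H29CurveDual.EmbeddingDeg

/-!
# Canonical sections vanishing simply at a general point
-/

set_option autoImplicit false
set_option linter.style.haveILetI false
set_option maxHeartbeats 800000

noncomputable section

universe u

open CategoryTheory CategoryTheory.Limits AlgebraicGeometry TopologicalSpace Opposite
open Groth.Agent.H29RR Groth.Agent.H29CurveDual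
open Groth.Agent.H25Theta (Cls cls)
open MonoidalCategory CartesianMonoidalCategory
open scoped MonObj

namespace Groth.Agent.H29Jac.SepPoint

attribute [local instance 10000] H10Coh.hasSheafifyAb H10Coh.hasWeakSheafifyAb H10Coh.hasExtAb H10Coh.enoughInjAb
attribute [local instance] Curv2.resAlgebra

variable {k : Type u} [Field k] [IsAlgClosed k] {X : Scheme.{u}} [X.Over (Spec (CommRingCat.of k))] [IsIntegral X]
  [IsProper (X ↘ Spec (CommRingCat.of k))] [Smooth (X ↘ Spec (CommRingCat.of k))]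

local notation "Ω" => Omega.sheaf (X ↘ Spec (CommRingCat.of k))

include k in
/-- The section of `O(P)` vanishes at `P` and nowhere else. -/
theorem exists_section_point (hdim : topologicalKrullDim X = 1) {P : X} (hP : IsClosed ({P} : Set X)) {L : X.Modules}
    (hL : PicF.IsInvertible L) (e : CohB1.tensorMod (ClSub.idealMod (ptIdeal P)) L ≅ Coh.structureModule X) :
    ∃ t : Γ(L, ⊤), ∀ y : X, y ∈ H11Ample.gen L t ↔ y ≠ P := by
  have hI := isInvertible_pt (k := k) hdim hP
  have hT := H11Ample.isInvertible_tensor hI hL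
  let u : Γ(CohB1.tensorMod (ClSub.idealMod (ptIdeal P)) L, ⊤) := e.inv.app ⊤ (1 : Γ(X, ⊤))
  have hu : ∀ y, y ∈ H11Ample.gen (CohB1.tensorMod (ClSub.idealMod (ptIdeal P)) L) u := fun y => by
    rw [show u = e.inv.app ⊤ (1 : Γ(X, ⊤)) from rfl, H11Ample.gen_iso]
    exact (H11Ample.mem_gen_iff (H11Ample.isInvertible_structureModule (X := X)) _ y).2
      (H11Ample.isGen_one (X := X) ⊤ y trivial)
  obtain ⟨hoff, hrng, -⟩ := ptIncl_stalks (k := k) hP (finrank_residue_eq_one (k := k) hP) hL hI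
  refine ⟨(ptIncl P L).app ⊤ u, fun y => ⟨fun hy => ?_, fun hy => ?_⟩⟩
  · rintro rfl
    rw [mem_gen_iff_notMem hL, ← germ_app, ← hrng] at hy
    exact hy ⟨_, rfl⟩
  · rw [mem_gen_iff_notMem hL, ← germ_app, mem_smul_top_iff _ _ (hoff y hy), ← mem_gen_iff_notMem hT]
    exact hu y

include k in
/-- Distinct points have nonisomorphic ideals in positive genus. -/
theorem eq_of_iso_ptIdeal (hdim : topologicalKrullDim X = 1) (hg : 1 ≤ Curv2.genus k X) {P Q : X}
    (hP : IsClosed ({P} : Set X)) (hQ : IsClosed ({Q} : Set X))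
    (i : ClSub.idealMod (ptIdeal Q) ≅ ClSub.idealMod (ptIdeal P)) : P = Q := by
  have hI := isInvertible_pt (k := k) hdim hP
  obtain ⟨L, hL, ⟨e⟩⟩ := exists_inverse_comm hI
  obtain ⟨t, ht⟩ := exists_section_point (k := k) hdim hP hL e
  obtain ⟨t', ht'⟩ := exists_section_point (k := k) hdim hQ hL (PicGrp.tensorModIso i (Iso.refl L) ≪≫ e)
  by_contra hne
  have hd : Curv2.deg k X L 1 = 1 := by
    have h := deg_ptIdeal_tensor (k := k) hdim hP hL
    rw [deg_congr (k := k) e, deg_structureModule] at h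
    omega
  have hle := h0_le_one_of_deg_one (k := k) hdim.le hg (finrank_h0_structure k X) hL hd
  have hx : (sec L).symm t ≠ 0 := fun h0 => by
    have h1 : t = 0 := (sec L).symm.injective (h0.trans (map_zero _).symm)
    have := (ht Q).2 (Ne.symm hne)
    rw [h1, mem_gen_iff_notMem hL, map_zero] at this
    exact this (Submodule.zero_mem _)
  haveI := finite_HH (k := k) L hL 0
  have h1 : Module.finrank k (Coh.HH X L 0) = 1 := le_antisymm hle
    (Nat.one_le_iff_ne_zero.2 (Module.finrank_pos_iff.2 (nontrivial_of_ne _ _ hx) |>.ne'))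
  obtain ⟨c, hc⟩ := exists_smul_eq_of_finrank_eq_one h1 hx ((sec L).symm t')
  have ht'' : t' = H10Coh.globA (A := k) (X := X) c • t := by
    conv_lhs => rw [← (sec L).apply_symm_apply t', ← hc, sec_smul, AddEquiv.apply_symm_apply]
  have h2 := (ht' P).2 hne
  have h3 : P ∉ H11Ample.gen L t := fun h => (ht P).1 h rfl
  rw [mem_gen_iff_notMem hL, ht'', H17.AssPts.germ_smul'] at h2
  rw [mem_gen_iff_notMem hL, not_not] at h3
  exact h2 (Submodule.smul_mem _ _ h3)

/-- Outside finitely many points the canonical sections separate tangent directions. -/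
theorem finite_bad_points (hdim : topologicalKrullDim X = 1) (hg : 2 ≤ Curv2.genus k X) :
    Set.Finite {P : X | IsClosed ({P} : Set X) ∧
      ¬ Module.finrank k (Coh.HH X (CohB1.tensorMod (ClSub.idealMod (ptIdeal P))
        (CohB1.tensorMod (ClSub.idealMod (ptIdeal P)) Ω)) 0) <
        Module.finrank k (Coh.HH X (CohB1.tensorMod (ClSub.idealMod (ptIdeal P)) Ω) 0)} := by
  classical
  have hΩ := isInvertible_omega_curve (k := k) hdim
  have h00 := finrank_h0_structure k X
  set S := {P : X | IsClosed ({P} : Set X) ∧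
      ¬ Module.finrank k (Coh.HH X (CohB1.tensorMod (ClSub.idealMod (ptIdeal P))
        (CohB1.tensorMod (ClSub.idealMod (ptIdeal P)) Ω)) 0) <
        Module.finrank k (Coh.HH X (CohB1.tensorMod (ClSub.idealMod (ptIdeal P)) Ω) 0)}
  -- each bad point gives a pencil of degree two
  have key : ∀ P ∈ S, ∃ M N : X.Modules, PicF.IsInvertible M ∧ Curv2.deg k X M 1 = 2 ∧
      2 ≤ Module.finrank k (Coh.HH X M 0) ∧ cls M = cls Ω * cls N ∧
      cls (ClSub.idealMod (ptIdeal P)) ^ 2 * (cls Ω * cls N) = 1 := by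
    rintro P ⟨hP, hbad⟩
    have hI := isInvertible_pt (k := k) hdim hP
    have hB := H11Ample.isInvertible_tensor hI hΩ
    have hT := H11Ample.isInvertible_tensor hI hB
    obtain ⟨N, hN, ⟨e⟩⟩ := exists_inverse_comm hT
    have hdB := deg_ptIdeal_tensor (k := k) hdim hP hΩ
    have hdT := deg_ptIdeal_tensor (k := k) hdim hP hB
    rw [deg_omega_of_h0 hdim h00] at hdB
    rw [hdB] at hdT
    have hlt := h0_omega_sub_point_lt (k := k) hdim h00 (by omega) hP
    obtain ⟨-, h1, -⟩ := twist_point (k := k) hP hΩ (isCoh_of_isInvertible hI)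
    obtain ⟨h2, -, -⟩ := twist_point (k := k) hP hB (isCoh_of_isInvertible hI)
    rw [finrank_residue_eq_one (k := k) hP] at h1
    rw [finrank_h1_structure hdim] at hlt h1
    have hrr := riemann_roch (k := k) hdim.le (CohB1.tensorMod (ClSub.idealMod (ptIdeal P))
      (CohB1.tensorMod (ClSub.idealMod (ptIdeal P)) Ω))
    rw [h00, finrank_h1_invertible hdim hT hN e, hdT] at hrr
    refine ⟨CohB1.tensorMod Ω N, N, H11Ample.isInvertible_tensor hΩ hN, ?_, by omega, H25Theta.cls_tensor _ _, ?_⟩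
    · rw [deg_quot (k := k) hdim.le hT hΩ hN e, hdT, deg_omega_of_h0 hdim h00]
      ring
    · have h := H25Theta.cls_eq.2 ⟨e⟩
      simp only [H25Theta.cls_tensor, H25Theta.cls_structureModule] at h
      rw [← h, sq]
      simp only [mul_assoc, mul_left_comm, mul_comm]
  by_cases hS : S.Nonempty
  swap
  · rw [Set.not_nonempty_iff_eq_empty.1 hS]
    exact Set.finite_empty
  obtain ⟨P₀, hP₀⟩ := hS
  obtain ⟨M₀, N₀, hM₀, hd₀, hh₀, hc₀, hsq₀⟩ := key P₀ hP₀
  obtain ⟨J, hJ, ⟨eJ⟩⟩ := exists_inverse_comm (isInvertible_pt (k := k) hdim hP₀.1)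
  have hJc : cls (ClSub.idealMod (ptIdeal P₀)) * cls J = 1 := H25Theta.cls_eq.2 ⟨eJ⟩
  have hX : Curve.IsSmoothProperCurve k X (X ↘ Spec (CommRingCat.of k)) :=
    ⟨‹IsProper (X ↘ Spec (CommRingCat.of k))›, ‹Smooth (X ↘ Spec (CommRingCat.of k))›, ‹IsIntegral X›, hdim⟩
  obtain ⟨A, _, _, hp, hs, hi, -, hcard⟩ := exists_jacobian k hX
  haveI := hp; haveI := hi
  haveI := H25AbCube.finite_torsPts (A := A) (n := 2) two_pos
  let tor : Set (PicF.Cl X) := {c | ∃ M : Scheme.Modules X, PicF.cl M = c ∧ PicF.IsInvertible M ∧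
    Nonempty (CohB1.tensorPow M 2 ≅ Coh.structureModule X)}
  haveI : Finite tor := Nat.finite_of_card_ne_zero (by
    rw [hcard 2 two_pos]
    haveI : Nonempty ↥(AbDual.torsPts A 2 (ptObj k)) := ⟨⟨1, one_pow 2⟩⟩
    exact Nat.card_pos.ne')
  let F : X → PicF.Cl X := fun P => PicF.cl (CohB1.tensorMod (ClSub.idealMod (ptIdeal P)) J)
  refine Set.Finite.of_finite_image (f := F) ((Set.toFinite tor).subset ?_) ?_
  · rintro _ ⟨P, hP, rfl⟩
    obtain ⟨M, N, hM, hd, hh, hc, hsq⟩ := key P hP
    refine ⟨_, rfl, H11Ample.isInvertible_tensor (isInvertible_pt (k := k) hdim hP.1) hJ, H25Theta.cls_eq.1 ?_⟩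
    have hMM : cls M = cls M₀ := H25Theta.cls_eq.2 (nonempty_iso_of_pencils hdim hg hM hd hh hM₀ hd₀ hh₀)
    rw [← hc, hMM] at hsq
    rw [← hc₀] at hsq₀
    rw [H25Theta.cls_pow, H25Theta.cls_tensor, H25Theta.cls_structureModule, mul_pow]
    calc cls (ClSub.idealMod (ptIdeal P)) ^ 2 * cls J ^ 2
        = cls (ClSub.idealMod (ptIdeal P)) ^ 2 * cls J ^ 2 *
            (cls (ClSub.idealMod (ptIdeal P₀)) ^ 2 * cls M₀) := by rw [hsq₀, mul_one]
      _ = (cls (ClSub.idealMod (ptIdeal P)) ^ 2 * cls M₀) *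
            (cls (ClSub.idealMod (ptIdeal P₀)) * cls J) ^ 2 := by
          rw [mul_pow]; simp only [mul_assoc, mul_left_comm, mul_comm]
      _ = 1 := by rw [hsq, hJc, one_pow, mul_one]
  · intro P hP Q hQ hPQ
    have h : cls (ClSub.idealMod (ptIdeal P)) * cls J = cls (ClSub.idealMod (ptIdeal Q)) * cls J := hPQ
    have h' : cls (ClSub.idealMod (ptIdeal P)) = cls (ClSub.idealMod (ptIdeal Q)) := by
      have hu : IsUnit (cls J) := H25Theta.isUnit_cls hJ
      exact hu.mul_right_cancel h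
    exact eq_of_iso_ptIdeal (k := k) hdim (by omega) hP.1 hQ.1 (H25Theta.cls_eq.1 h'.symm).some

/-- At some point of every nonempty open set a canonical section has a simple zero. -/
theorem exists_simple_zero (hdim : topologicalKrullDim X = 1) (hg : 2 ≤ Curv2.genus k X) (V : X.Opens)
    (hV : genericPoint X ∈ V) :
    ∃ P ∈ V, IsClosed ({P} : Set X) ∧ ∃ t : Γ(Ω, ⊤), ∀ (ε : (Ω).presheaf.stalk P) (b : X.presheaf.stalk P),
      Function.Bijective (fun r : X.presheaf.stalk P => r • ε) → (Ω).presheaf.germ ⊤ P trivial t = b • ε →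
      IsLocalRing.maximalIdeal (X.presheaf.stalk P) = Ideal.span {b} := by
  haveI := isNoetherian_of_proper (k := k) (X := X)
  haveI : JacobsonSpace X := LocallyOfFiniteType.jacobsonSpace (X ↘ Spec (CommRingCat.of k))
  have hfin := finite_bad_points (k := k) hdim hg
  set S := {P : X | IsClosed ({P} : Set X) ∧
      ¬ Module.finrank k (Coh.HH X (CohB1.tensorMod (ClSub.idealMod (ptIdeal P))
        (CohB1.tensorMod (ClSub.idealMod (ptIdeal P)) Ω)) 0) <
        Module.finrank k (Coh.HH X (CohB1.tensorMod (ClSub.idealMod (ptIdeal P)) Ω) 0)} with hSdef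
  have hScl : IsClosed S := by
    rw [← Set.biUnion_of_singleton S]
    exact hfin.isClosed_biUnion fun P hP => hP.1
  have hgenS : genericPoint X ∉ S := fun h => by
    obtain ⟨x, -, hx, -⟩ := exists_point (k := k) hdim ⊤ trivial
    haveI : Subsingleton X := ⟨fun a b => by
      have key : ∀ c : X, c = genericPoint X := fun c => by
        have hc : c ∈ closure ({genericPoint X} : Set X) := (genericPoint_specializes c).mem_closure
        rwa [h.1.closure_eq] at hc
      rw [key a, key b]⟩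
    have := topologicalKrullDim_zero_of_discreteTopology X
    rw [hdim] at this
    exact not_le.2 zero_lt_one this
  obtain ⟨P, ⟨hPV, hPS⟩, hP⟩ := nonempty_inter_closedPoints (Z := (V : Set X) \ S) ⟨_, hV, hgenS⟩
    (V.2.sdiff hScl).isLocallyClosed
  rw [mem_closedPoints_iff] at hP
  refine ⟨P, hPV, hP, ?_⟩
  have hlt := not_not.1 fun h => hPS (show P ∈ S from ⟨hP, h⟩)
  have hΩ := isInvertible_omega_curve (k := k) hdim
  have hI := isInvertible_pt (k := k) hdim hP
  have hB := H11Ample.isInvertible_tensor hI hΩ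
  obtain ⟨g, hgP⟩ := exists_mem_gen_of_h0_lt (k := k) hP hB (isCoh_of_isInvertible hI) hlt
  obtain ⟨-, hrng, -⟩ := ptIncl_stalks (k := k) hP (finrank_residue_eq_one (k := k) hP) hΩ hI
  refine ⟨(ptIncl P Ω).app ⊤ g, fun ε b hε hb => le_antisymm (fun m hm => ?_) ?_⟩
  · have h1 : m • ε ∈ LinearMap.range (H06Mod.stalkLin (ptIncl P Ω) P) := by
      rw [hrng]; exact Submodule.smul_mem_smul hm Submodule.mem_top
    obtain ⟨v, hv⟩ := h1
    obtain ⟨r, rfl⟩ := ((H11Ample.mem_gen_iff hB g P).1 hgP).2 v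
    rw [map_smul, germ_app, hb, smul_smul] at hv
    rw [← hε.1 hv]
    exact Ideal.mul_mem_left _ _ (Ideal.mem_span_singleton_self _)
  · rw [Ideal.span_singleton_le_iff_mem]
    by_contra hu
    rw [IsLocalRing.mem_maximalIdeal, mem_nonunits_iff, not_not] at hu
    have hmem : b • ε ∈ IsLocalRing.maximalIdeal (X.presheaf.stalk P) • (⊤ : Submodule (X.presheaf.stalk P) _) := by
      rw [← hb, ← germ_app, ← hrng]
      exact ⟨_, rfl⟩
    rw [Submodule.smul_mem_iff_of_isUnit _ hu] at hmem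
    have hall : ∀ w, w ∈ IsLocalRing.maximalIdeal (X.presheaf.stalk P) • (⊤ : Submodule (X.presheaf.stalk P) ((Ω).presheaf.stalk P)) :=
      fun w => by obtain ⟨r, rfl⟩ := hε.2 w; exact Submodule.smul_mem _ _ hmem
    obtain ⟨W, e, hPW, he⟩ := H11Ample.exists_gen hΩ P
    obtain ⟨hfg, hfinst, hrk⟩ := H25Par.finrank_stalk (rank_one_of_isInvertible hΩ) P
    haveI := hfinst
    have htop : (⊤ : Submodule (X.presheaf.stalk P) ((Ω).presheaf.stalk P)) = ⊥ :=
      Submodule.eq_bot_of_le_smul_of_le_jacobson_bot _ _ Module.Finite.fg_top (fun w _ => hall w)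
        (IsLocalRing.jacobson_eq_maximalIdeal ⊥ bot_ne_top).ge
    haveI : Subsingleton ((Ω).presheaf.stalk P) :=
      subsingleton_of_forall_eq 0 fun w => (Submodule.mem_bot (X.presheaf.stalk P)).1 (htop ▸ Submodule.mem_top)
    exact one_ne_zero (hε.1 (Subsingleton.elim ((1 : X.presheaf.stalk P) • ε) ((0 : X.presheaf.stalk P) • ε)))

end Groth.Agent.H29Jac.SepPoint
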