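import Groth.Agent.H29Jac.SepPoint.Value
import Groth.Agent.H29Jac.SepPoint.GeomPoint
import Groth.Agent.H29Jac.Descent
import Groth.Agent.H19AbSch.OmegaGrp
import Groth.Agent.H29Curve.SmoothStalk
import Groth.Agent.H23SB.Trivial
import Groth.Agent.S6488

/-!
# A closed point of small degree with separable residue field
-/

set_option autoImplicit false
set_option linter.style.haveILetI false
set_option linter.unusedSectionVars false
set_option maxHeartbeats 1200000

noncomputable section

universe u

open CategoryTheory CategoryTheory.Limits AlgebraicGeometry TopologicalSpace Opposite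
open Groth.Agent.H29RR Groth.Agent.H29CurveDual

namespace Groth.Agent.H29Jac.SepPoint

attribute [local instance 10000] H10Coh.hasSheafifyAb H10Coh.hasWeakSheafifyAb H10Coh.hasExtAb H10Coh.enoughInjAb
attribute [local instance] Curv2.resAlgebra

section Span

variable {k : Type u} [Field k] {K : Type u} [Field K] [Algebra k K] {X : Scheme.{u}}
  [X.Over (Spec (CommRingCat.of k))] {X' : Scheme.{u}} [X'.Over (Spec (CommRingCat.of K))] {q : X' ⟶ X}
  (hsq : IsPullback q (X' ↘ Spec (CommRingCat.of K)) (X ↘ Spec (CommRingCat.of k))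
    (Spec.map (CommRingCat.ofHom (algebraMap k K))))

include hsq in
/-- Global sections of an inverse image are combinations of inverse images of global sections. -/
theorem exists_sections_span [CompactSpace X] [QuasiSeparatedSpace X] {L : X.Modules} (hL : PicF.IsInvertible L)
    [IsLocallyNoetherian X] (σ : Γ((Scheme.Modules.pullback q).obj L, ⊤)) :
    ∃ (N : ℕ) (c : Fin N → K) (w : Fin N → Γ(L, ⊤)),
      σ = ∑ i, H10Coh.globA (A := K) (X := X') (c i) • H11Ample.pullTop q (w i) := by
  haveI : L.IsQuasicoherent := (H11Ample.isCoh_of_isInvertible hL).1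
  have hO : Coh.IsCoh (Coh.structureModule X) := H10Coh.isCoh_structureModule' X
  haveI := hO.1
  let adj := Scheme.Modules.pullbackPushforwardAdjunction q
  let a : Coh.structureModule X ⟶ (Scheme.Modules.pushforward q).obj ((Scheme.Modules.pullback q).obj L) :=
    H11Tilde.homOfGlobal _ σ
  let ψ := (adj.homEquiv _ _).symm a
  obtain ⟨N, c, φ, hψ⟩ := H23KS.exists_span (k := k) (K := K) hsq (F := Coh.structureModule X) (G := L) hO.2 ψ
  refine ⟨N, c, fun i => (φ i).app ⊤ (1 : Γ(X, ⊤)), ?_⟩
  have h1 : ψ.app ⊤ (H11Ample.pullTop q (L := Coh.structureModule X) (1 : Γ(X, ⊤))) = σ := by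
    have h := congrArg (fun m => Scheme.Modules.Hom.app m ⊤ (1 : Γ(X, ⊤))) ((adj.homEquiv _ _).apply_symm_apply a)
    simp only [Adjunction.homEquiv_unit] at h
    refine Eq.trans h ?_
    exact H11Ample.val_homOfGlobal (L := (Scheme.Modules.pushforward q).obj ((Scheme.Modules.pullback q).obj L)) σ
  rw [← h1, hψ]
  show H23KS.evalAt ⊤ (H11Ample.pullTop q (L := Coh.structureModule X) (1 : Γ(X, ⊤))) _ = _
  rw [map_sum]
  refine Finset.sum_congr rfl fun i _ => ?_
  show (Formal.smulMod K ((Scheme.Modules.pullback q).obj L) (c i)).app ⊤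
    (((Scheme.Modules.pullback q).map (φ i)).app ⊤ (H11Ample.pullTop q (L := Coh.structureModule X) (1 : Γ(X, ⊤)))) = _
  rw [show ((Scheme.Modules.pullback q).map (φ i)).app ⊤ (H11Ample.pullTop q (L := Coh.structureModule X) (1 : Γ(X, ⊤))) =
    H11Ample.pullTop q ((φ i).app ⊤ (1 : Γ(X, ⊤))) from (H17.PullSect.pullSect_natural q (φ i) ⊤ (1 : Γ(X, ⊤))).symm]
  exact congrArg (fun r : Γ(X', ⊤) => r • H11Ample.pullTop q ((φ i).app ⊤ (1 : Γ(X, ⊤))))
    (ConcreteCategory.congr_hom (X'.presheaf.map_id (op ⊤)) _)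

end Span

variable {k : Type u} [Field k] {X : Scheme.{u}} [X.Over (Spec (CommRingCat.of k))] [IsIntegral X]
  [IsProper (X ↘ Spec (CommRingCat.of k))] [Smooth (X ↘ Spec (CommRingCat.of k))]

local notation "Ω" => Omega.sheaf (X ↘ Spec (CommRingCat.of k))

/-- The residue degree at a zero of a nonzero section is bounded by the degree. -/
theorem residue_le_deg (hdim : topologicalKrullDim X ≤ 1) {L : X.Modules} (hL : PicF.IsInvertible L) {g : Γ(L, ⊤)}
    (hg : g ≠ 0) {x : X} (hx : IsClosed ({x} : Set X)) (hxg : x ∉ H11Ample.gen L g) :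
    (Module.finrank k (X.residueField x) : ℤ) ≤ Curv2.deg k X L 1 := by
  haveI := isNoetherian_of_proper (k := k) (X := X)
  obtain ⟨hmono, hη⟩ := mono_homOfGlobal hL hg
  let s := H11Tilde.homOfGlobal L g
  haveI : Mono s := hmono
  have hLc : Coh.IsCoh L := H16Derived.KFlat.Stalk.isCoh_of_isFinLocFree (H28Pinch.isFinLocFree_of_isInvertible hL)
  obtain ⟨hC, hfin, hcl, he⟩ := euler_sub_of_mono (k := k) hdim (H10Coh.isCoh_structureModule' X) hLc s hη
  have hdeg : Curv2.deg k X L 1 = (Module.finrank k (Coh.HH X (cokernel s) 0) : ℤ) := by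
    rw [deg_def]; omega
  rw [hdeg]
  haveI : Module.Finite k (Coh.HH X (cokernel s) 0) := H10Coh.finite_HH_proper k X _ hC 0
  haveI : Module.Finite k (Coh.HH X (ClSub.quotMod (ptIdeal x)) 0) := H10Coh.finite_HH_proper k X _
    (H24FSch.isCoh_pushforward_of_isClosedImmersion (ptIdeal x).subschemeι (H10Coh.isCoh_structureModule' _)) 0
  haveI : Module.Finite k (X.residueField x) :=
    Module.Finite.equiv (nonempty_quotMod_pt_equiv (k := k) hx).some
  obtain ⟨V, e, hxV, hgen⟩ := H11Ample.exists_gen hL x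
  obtain ⟨a, ha⟩ := (hgen x hxV).2 (L.presheaf.germ ⊤ x trivial g)
  change a • L.presheaf.germ V x hxV e = _ at ha
  have ham : a ∈ IsLocalRing.maximalIdeal (X.presheaf.stalk x) := by
    by_contra hu
    rw [IsLocalRing.mem_maximalIdeal, mem_nonunits_iff, not_not] at hu
    refine hxg ((H11Ample.mem_gen_iff hL g x).2 ?_)
    rw [← ha]
    obtain ⟨u, rfl⟩ := hu
    simp only [smul_smul]
    exact (hgen x hxV).comp (Units.mulRight u).bijective
  let q := cokernel.π s
  let qs := H06Mod.stalkLin q x
  letI : Algebra k (X.presheaf.stalk x) := (H25Par.constStalk (k := k) (X := X) x).toAlgebra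
  have hsurj : Function.Surjective qs :=
    (ModuleCat.epi_iff_surjective _).1 (inferInstance : Epi ((DerSch.stalkFunctor X x).map q))
  let φ : X.presheaf.stalk x →ₗ[k] H25Par.Stk k (cokernel s) x :=
    { toFun := fun b => (show (cokernel s).presheaf.stalk x from b • qs (L.presheaf.germ V x hxV e))
      map_add' := fun b b' => add_smul b b' (qs (L.presheaf.germ V x hxV e))
      map_smul' := fun c b => mul_smul (H25Par.constStalk (k := k) x c) b (qs (L.presheaf.germ V x hxV e)) }
  have hφ : Function.Surjective φ := fun w => by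
    obtain ⟨z, hz⟩ := hsurj w
    obtain ⟨b, rfl⟩ := (hgen x hxV).2 z
    exact ⟨b, (map_smul qs b _).symm.trans hz⟩
  let ρ : X.presheaf.stalk x →ₗ[k] X.residueField x :=
    { toFun := X.residue x
      map_add' := map_add _
      map_smul' := fun c b => (map_mul (X.residue x).hom (H25Par.constStalk (k := k) x c) b).trans
        (Algebra.smul_def c (X.residue x b)).symm }
  have hex : Function.Exact ⇑(H06Mod.stalkLin s x) ⇑qs := by
    have hS : (ShortComplex.mk s q (cokernel.condition s)).ShortExact := { exact := ShortComplex.exact_cokernel _ }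
    exact (ShortComplex.ShortExact.moduleCat_exact_iff_function_exact _).1
      (hS.exact.map (DerSch.stalkFunctor X x))
  have hker : LinearMap.ker φ ≤ LinearMap.ker ρ := fun b hb => by
    have h1 : qs (b • L.presheaf.germ V x hxV e) = 0 := (map_smul qs b _).trans hb
    obtain ⟨r, hr⟩ := (hex _).1 h1
    obtain ⟨r', rfl⟩ := (H11Ample.isGen_one (X := X) ⊤ x trivial).2 r
    rw [map_smul] at hr
    have h2 : H06Mod.stalkLin s x ((Coh.structureModule X).presheaf.germ ⊤ x trivial (H11Ample.one ⊤)) =
        L.presheaf.germ ⊤ x trivial g := by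
      rw [germ_app]
      refine congrArg (L.presheaf.germ ⊤ x trivial) ((H11Tilde.homOfGlobal_app L g ⊤ _).trans ((one_smul _ _).trans
        (ConcreteCategory.congr_hom (L.presheaf.map_id (op ⊤)) _)))
    rw [h2, ← ha, smul_smul] at hr
    have h3 : r' * a = b := (hgen x hxV).1 hr
    show X.residue x b = 0
    rw [← h3]
    exact (IsLocalRing.residue_eq_zero_iff _).2 (Ideal.mul_mem_left _ _ ham)
  let P := (LinearMap.proj (R := k) (φ := fun y : (CohB1.support (cokernel s)) => H25Par.Stk k (cokernel s) y.1))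
  have hgerm := H25Par.germs_bijective (k := k) (cokernel s) hfin hcl (fun y hy => not_not.1 hy)
  by_cases hxs : x ∈ CohB1.support (cokernel s)
  · have hPs : Function.Surjective ((P ⟨x, hxs⟩).comp (H25Par.germs (k := k) (cokernel s) (CohB1.support (cokernel s)))) := by
      intro t
      classical
      obtain ⟨w, hw⟩ := hgerm.2 (Function.update 0 ⟨x, hxs⟩ t)
      exact ⟨w, by rw [LinearMap.comp_apply, hw]; exact Function.update_self _ _ _⟩
    haveI : Module.Finite k (H25Par.Stk k (cokernel s) x) := Module.Finite.of_surjective _ hPs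
    have hρ : Function.Surjective ρ := X.residue_surjective x
    let η := (Submodule.liftQ (LinearMap.ker φ) ρ hker).comp
      (φ.quotKerEquivOfSurjective hφ).symm.toLinearMap
    have hη' : Function.Surjective η := fun z => by
      obtain ⟨b, rfl⟩ := hρ z
      refine ⟨φ b, ?_⟩
      show Submodule.liftQ _ ρ hker ((φ.quotKerEquivOfSurjective hφ).symm (φ b)) = ρ b
      rw [show φ b = φ.quotKerEquivOfSurjective hφ (Submodule.Quotient.mk b) from rfl, LinearEquiv.symm_apply_apply]
      rfl
    exact_mod_cast (LinearMap.finrank_le_finrank_of_surjective hη').trans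
      (LinearMap.finrank_le_finrank_of_surjective hPs)
  · exfalso
    haveI : Subsingleton ((cokernel s).presheaf.stalk x) := not_not.1 hxs
    have h0 : φ 1 = 0 := Subsingleton.elim (α := (cokernel s).presheaf.stalk x) _ _
    have : ρ 1 = 0 := hker h0
    exact one_ne_zero ((map_one (X.residue x).hom).symm.trans this)

/-- Some canonical ratio has nonzero differential. -/
theorem exists_section_dSect_ne_zero (hdim : topologicalKrullDim X = 1)
    (h0 : Module.finrank k (Coh.HH X (Coh.structureModule X) 0) = 1) (hg : 2 ≤ Curv2.genus k X)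
    {U : X.Opens} (hU : IsAffineOpen U) [Nonempty U] (e : Γ(Ω, U)) (he : H11Tilde.IsGen Ω e)
    (s₀ : Γ(Ω, ⊤)) (hs₀ : (Ω).presheaf.map (homOfLE (le_top : U ≤ ⊤)).op s₀ = e) :
    ∃ (s : Γ(Ω, ⊤)) (a : Γ(X, U)), (Ω).presheaf.map (homOfLE (le_top : U ≤ ⊤)).op s = a • e ∧
      OmegaSh.dSect (X ↘ Spec (CommRingCat.of k)) U a ≠ 0 := by
  by_contra! hall
  haveI := isNoetherian_of_proper (k := k) (X := X)
  let K := AlgebraicClosure k
  let f := X ↘ Spec (CommRingCat.of k)
  have hsq : IsPullback (Curv2.bcFst k X K) (Curv2.bcSnd k X K) f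
      (Spec.map (CommRingCat.ofHom (algebraMap k K))) := IsPullback.of_hasPullback _ _
  letI : (Curv2.bc k X K).Over (Spec (CommRingCat.of K)) := ⟨Curv2.bcSnd k X K⟩
  obtain ⟨hp', hs', hint', hdim'⟩ := isSmoothProperCurve_bc (X := X) hdim h0 K
  let X' := Curv2.bc k X K
  haveI : IsProper (X' ↘ Spec (CommRingCat.of K)) := hp'
  haveI : Smooth (X' ↘ Spec (CommRingCat.of K)) := hs'
  haveI : IsIntegral X' := hint'
  haveI := isNoetherian_of_proper (k := K) (X := X')
  have hgen' : Curv2.genus K X' = Curv2.genus k X := H29DoubleCover.genus_bc f (Curv2.bcSnd k X K) _ hsq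
  let q : X' ⟶ X := Curv2.bcFst k X K
  haveI : Surjective (Spec.map (CommRingCat.ofHom (algebraMap k K))) :=
    ⟨fun z => ⟨default, Subsingleton.elim (α := PrimeSpectrum k) _ _⟩⟩
  haveI : Surjective q := MorphismProperty.of_isPullback (P := @Surjective) hsq.flip inferInstance
  obtain ⟨z, hzU⟩ := Set.nonempty_coe_sort.1 ‹Nonempty U›
  obtain ⟨w, hw⟩ := q.surjective z
  have hgenV : genericPoint X' ∈ q ⁻¹ᵁ U :=
    ((genericPoint_spec X').mem_open_set_iff (q ⁻¹ᵁ U).isOpen).2 ⟨w, trivial, show q w ∈ U from hw ▸ hzU⟩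
  obtain ⟨P, hPU, hP, t, ht⟩ := exists_simple_zero (k := K) hdim' (by rw [hgen']; exact hg) (q ⁻¹ᵁ U) hgenV
  haveI : QuasiSeparated (X' ↘ Spec (CommRingCat.of K)) := inferInstance
  obtain ⟨φ⟩ := H19AbSch.OmegaGrp.nonempty_omega_baseChange f (Spec.map (CommRingCat.ofHom (algebraMap k K))) q
    (X' ↘ Spec (CommRingCat.of K)) hsq
  obtain ⟨N, c, w, hσ⟩ := exists_sections_span (k := k) (K := K) (q := q) hsq
    (isInvertible_omega_curve (k := k) hdim) (φ.inv.app ⊤ t)
  choose a ha using fun i => H11Ample.exists_coeff he ((Ω).presheaf.map (homOfLE (le_top : U ≤ ⊤)).op (w i))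
  have hda : ∀ i, OmegaSh.dSect f U (a i) = 0 := fun i => hall (w i) (a i) (ha i)
  letI := algK f U
  letI : Algebra K (X'.presheaf.stalk P) := Curv2.stalkAlgebra K X' P
  let R := X'.presheaf.stalk P
  let ψ : Γ(X, U) →+* R := (q.stalkMap P).hom.comp (X.presheaf.germ U (q P) hPU).hom
  letI : Algebra Γ(X, U) R := ψ.toAlgebra
  letI : Algebra k R := ((algebraMap K R).comp (algebraMap k K)).toAlgebra
  haveI : IsScalarTower k K R := IsScalarTower.of_algebraMap_eq fun _ => rfl
  haveI : IsScalarTower k Γ(X, U) R := IsScalarTower.of_algebraMap_eq fun r => by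
    show X'.presheaf.germ ⊤ P trivial (Coh.toGlobal (X' ↘ Spec (CommRingCat.of K)) (algebraMap k K r)) =
      q.stalkMap P (X.presheaf.germ U (q P) hPU (f.appLE ⊤ U le_top ((Scheme.ΓSpecIso (CommRingCat.of k)).inv r)))
    rw [q.germ_stalkMap_apply]
    have h2 : q.app U (f.appLE ⊤ U le_top ((Scheme.ΓSpecIso (CommRingCat.of k)).inv r)) =
        LeadFF.scal (X' ↘ Spec (CommRingCat.of K)) (q ⁻¹ᵁ U) (algebraMap k K r) := by
      refine Eq.trans (congrArg (q.app U) ?_) (LeadFF.app_scal hsq U r)
      rfl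
    rw [h2]
    exact (TopCat.Presheaf.germ_res_apply _ _ _ _ _).symm
  let δ : Derivation k Γ(X, U) Ω[R⁄K] := ((KaehlerDifferential.D K R).restrictScalars k).compAlgebraMap Γ(X, U)
  obtain ⟨Λ, hΛ⟩ := exists_lift_derivation hU δ
  have hDa : ∀ i, KaehlerDifferential.D K R (ψ (a i)) = 0 := fun i => by
    show δ (a i) = 0
    rw [← hΛ, hda, map_zero]
  let ε₁ : ((Scheme.Modules.pullback q).obj Ω).presheaf.stalk P :=
    ((Scheme.Modules.pullback q).obj Ω).presheaf.germ (q ⁻¹ᵁ U) P hPU (OmegaSh.pullSect q Ω U e)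
  have hε₁ : Function.Bijective (fun r : R => r • ε₁) := he.pullSect q P hPU
  let ε := H06Mod.stalkLin φ.hom P ε₁
  have hε : Function.Bijective (fun r : R => r • ε) := by
    have hb : Function.Bijective (H06Mod.stalkLin φ.hom P) :=
      ConcreteCategory.bijective_of_isIso ((DerSch.stalkFunctor X' P).map φ.hom)
    refine Eq.mpr (congrArg Function.Bijective (funext fun r => ?_)) (hb.comp hε₁)
    exact (map_smul _ r ε₁).symm
  let b : R := ∑ i, algebraMap K R (c i) * ψ (a i)
  have hb : (Omega.sheaf (X' ↘ Spec (CommRingCat.of K))).presheaf.germ ⊤ P trivial t = b • ε := by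
    have h1 : ((Scheme.Modules.pullback q).obj Ω).presheaf.germ ⊤ P trivial (φ.inv.app ⊤ t) = b • ε₁ := by
      rw [hσ, map_sum, Finset.sum_smul]
      refine Finset.sum_congr rfl fun i _ => ?_
      rw [H17.AssPts.germ_smul', mul_smul]
      refine congrArg (fun v => algebraMap K R (c i) • v) ?_
      refine S6488.germ_pullSect_smul q (w i) e P hPU (X.presheaf.germ U (q P) hPU (a i)) ?_
      rw [← H06Mod.germ_smul, ← ha i, TopCat.Presheaf.germ_res_apply]
    have h2 := congrArg (H06Mod.stalkLin φ.hom P) h1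
    rw [map_smul, germ_app] at h2
    refine Eq.trans ?_ h2
    refine congrArg _ ?_
    exact (ConcreteCategory.congr_hom (congrArg (fun m => Scheme.Modules.Hom.app m ⊤) φ.inv_hom_id) t).symm
  have hm := ht ε b hε hb
  have hDb : KaehlerDifferential.D K R b = 0 := by
    rw [map_sum]
    refine Finset.sum_eq_zero fun i _ => ?_
    rw [Derivation.leibniz, Derivation.map_algebraMap, hDa i, smul_zero, smul_zero, add_zero]
  haveI : IsDomain R := inferInstance
  have hb0 : b ≠ 0 := fun hb0 => by
    rw [hb0, Ideal.span_singleton_eq_bot.2 rfl, ← IsLocalRing.isField_iff_maximalIdeal_eq] at hm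
    have hgp := (H12AlgSp.ringKrullDim_stalk_eq_zero_iff P).1 (ringKrullDim_eq_zero_of_isField hm)
    have h1 : genericPoint X' = P := (H8Props.mem_genericPoints_iff.1 hgp) _ (genericPoint_specializes P)
    haveI : Subsingleton X' := ⟨fun a b => by
      have key : ∀ c : X', c = P := fun c => by
        have hc : c ∈ closure ({genericPoint X'} : Set X') := (genericPoint_specializes c).mem_closure
        rwa [h1, hP.closure_eq] at hc
      rw [key a, key b]⟩
    have := topologicalKrullDim_zero_of_discreteTopology X'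
    rw [hdim'] at this
    exact not_le.2 zero_lt_one this
  have hirr : Irreducible b :=
    ((Ideal.span_singleton_prime hb0).1 (hm ▸ (IsLocalRing.maximalIdeal.isMaximal R).isPrime)).irreducible
  haveI : SmoothOfRelativeDimension 1 (X' ↘ Spec (CommRingCat.of K)) :=
    H27CurveDiv.smoothOfRelativeDimension_of_dim _ 1 (by exact_mod_cast hdim')
  obtain ⟨h1, h2, h3, h4⟩ := H29Curve.stalk_of_smooth K X' P 1 ⊤ trivial
    (inferInstanceAs (SmoothOfRelativeDimension (0 + 1) ((⊤ : X'.Opens).ι ≫ (X' ↘ Spec (CommRingCat.of K)))))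
  haveI := h1; haveI := h2; haveI := h3
  haveI : Algebra.IsSeparable K (IsLocalRing.ResidueField R) := by
    haveI : FiniteDimensional K (X'.residueField P) :=
      Module.finite_of_finrank_pos (by rw [finrank_residue_eq_one (k := K) hP]; exact one_pos)
    let e' : X'.residueField P ≃ₐ[K] IsLocalRing.ResidueField R :=
      AlgEquiv.ofRingEquiv (f := RingEquiv.refl (X'.residueField P)) fun c => rfl
    exact AlgEquiv.Algebra.isSeparable e'
  have hbij := (H29Curve.bijective_smul_D_of_rank_one K R h4 hirr).2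
  refine one_ne_zero (hbij.1 ?_ : (1 : R) = 0)
  simp [hDb]

/-- A smooth proper curve of genus at least two has a closed point with separable residue field of degree at most
`2g - 2`. -/
theorem exists_closedPoint_sep_le (hdim : topologicalKrullDim X = 1)
    (h0 : Module.finrank k (Coh.HH X (Coh.structureModule X) 0) = 1) (hg : 2 ≤ Curv2.genus k X) :
    ∃ x : X, IsClosed ({x} : Set X) ∧ Algebra.IsSeparable k (X.residueField x) ∧
      Module.finrank k (X.residueField x) ≤ 2 * Curv2.genus k X - 2 ∧ FiniteDimensional k (X.residueField x) := by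
  haveI := isNoetherian_of_proper (k := k) (X := X)
  have hΩ := isInvertible_omega_curve (k := k) hdim
  have hd := deg_omega_of_h0 (k := k) hdim h0
  haveI : Nontrivial (Coh.HH X Ω 0) := Module.nontrivial_of_finrank_pos (R := k) (by rw [finrank_h1_structure hdim]; omega)
  obtain ⟨s₀, hs₀⟩ := exists_global_ne_zero Ω inferInstance
  -- a zero of a nonzero section with separable residue field suffices
  suffices h : ∃ (x : X) (s : Γ(Ω, ⊤)), IsClosed ({x} : Set X) ∧ Algebra.IsSeparable k (X.residueField x) ∧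
      s ≠ 0 ∧ x ∉ H11Ample.gen Ω s by
    obtain ⟨x, s, hx, hsep, hs, hxs⟩ := h
    have := residue_le_deg (k := k) hdim.le hΩ hs hx hxs
    rw [hd] at this
    exact ⟨x, hx, hsep, by omega, Module.finite_of_finrank_pos (residue_finrank_pos (k := k) hx)⟩
  rcases finite_or_infinite k with hk | hk
  · obtain ⟨x, hxg⟩ : ∃ x, x ∉ H11Ample.gen Ω s₀ := by
      by_contra hc
      push Not at hc
      have := H29DoubleCover.deg_eq_zero_of_gen (k := k) hΩ s₀ hc
      omega
    have hx : IsClosed ({x} : Set X) := by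
      rcases H29Curve.isClosed_singleton_or_eq_genericPoint hdim.le x with h | h
      · exact h
      · exact absurd (h ▸ genericPoint_mem_gen hΩ hs₀) hxg
    haveI : FiniteDimensional k (X.residueField x) := Module.finite_of_finrank_pos (residue_finrank_pos (k := k) hx)
    exact ⟨x, s₀, hx, inferInstance, hs₀, hxg⟩
  · obtain ⟨U, hU, hηU, hUg⟩ := exists_isAffineOpen_mem_and_subset (genericPoint_mem_gen hΩ hs₀)
    haveI : Nonempty U := ⟨⟨_, hηU⟩⟩
    have he : H11Tilde.IsGen Ω ((Ω).presheaf.map (homOfLE (le_top : U ≤ ⊤)).op s₀) := by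
      have := (H11Ample.isGen_gen (L := Ω) s₀).res (W := U) hUg
      rwa [H10Coh.mres_mres] at this
    obtain ⟨s₁, a, ha, hda⟩ := exists_section_dSect_ne_zero (k := k) hdim h0 hg hU _ he s₀ rfl
    obtain ⟨x, hxU, c, hx, hsep, hxb, hac⟩ := exists_point_value (k := k) hdim hU _ he a hda
    let s : Γ(Ω, ⊤) := s₁ - H10Coh.globA (A := k) (X := X) c • s₀
    have hs : (Ω).presheaf.map (homOfLE (le_top : U ≤ ⊤)).op s =
        (a - (algK (X ↘ Spec (CommRingCat.of k)) U).algebraMap c) • (Ω).presheaf.map (homOfLE (le_top : U ≤ ⊤)).op s₀ := by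
      rw [map_sub, Scheme.Modules.map_smul, ha, sub_smul]
      congr 2
    refine ⟨x, s, hx, hsep, fun hsz => ?_, fun hxg => hxb ?_⟩
    · rw [hsz, map_zero] at hs
      have h1 := congrArg ((Ω).presheaf.germ U (genericPoint X) hηU) hs.symm
      rw [map_zero, H06Mod.germ_smul] at h1
      have h2 : X.presheaf.germ U (genericPoint X) hηU (a - (algK (X ↘ Spec (CommRingCat.of k)) U).algebraMap c) = 0 :=
        (he _ hηU).1 (h1.trans (zero_smul (X.presheaf.stalk (genericPoint X)) _).symm)
      exact hac (germ_injective_of_isIntegral X (genericPoint X) hηU (h2.trans (map_zero _).symm))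
    · exact (H11Ample.gen_inf_eq_basicOpen he s _ hs).le ⟨hxg, hxU⟩

end Groth.Agent.H29Jac.SepPoint
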