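import Mathlib

/-!
# Values of a function with nowhere vanishing differential
-/

set_option autoImplicit false

universe u

open Polynomial

namespace Groth.Agent.H29Jac.SepPoint

variable {k B : Type u} [Field k] [CommRing B] [IsDomain B] [Algebra k B]

/-- If all differentials are proportional to that of `a` up to the factor `h`, then `a` is transcendental
as soon as the algebra is finitely generated and not a field. -/
theorem transcendental_of_rel [Algebra.FiniteType k B] (hB : ¬ IsField B) (a h : B) (hh : h ≠ 0) (c : B → B)
    (hrel : ∀ (N : Type u) [AddCommGroup N] [Module k N] [Module B N] [IsScalarTower k B N] (δ : Derivation k B N)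
      (b : B), h • δ b = c b • δ a) : Transcendental k a := by
  intro ha
  let K := FractionRing B
  let a' : K := algebraMap B K a
  have ha' : IsIntegral k a' := ha.isIntegral.map (IsScalarTower.toAlgHom k B K)
  let L : IntermediateField k K := IntermediateField.adjoin k {a'}
  haveI : FiniteDimensional k L := IntermediateField.adjoin.finiteDimensional ha'
  let D : Derivation k K Ω[K⁄L] := (KaehlerDifferential.D L K).restrictScalars k
  let δ : Derivation k B Ω[K⁄L] := D.compAlgebraMap B
  have hδa : δ a = 0 := (KaehlerDifferential.D L K).map_algebraMap ⟨a', IntermediateField.mem_adjoin_simple_self k a'⟩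
  have hδ : ∀ b : B, KaehlerDifferential.D L K (algebraMap B K b) = 0 := fun b => by
    have h1 := hrel _ δ b
    rw [hδa, smul_zero, ← IsScalarTower.algebraMap_smul K h (δ b), smul_eq_zero] at h1
    exact h1.resolve_left fun h0 => hh ((map_eq_zero_iff _ (IsFractionRing.injective B K)).1 h0)
  haveI : Subsingleton Ω[K⁄L] := by
    have hD : ∀ z : K, KaehlerDifferential.D L K z = 0 := fun z => by
      obtain ⟨x, y, hy, rfl⟩ := IsFractionRing.div_surjective (A := B) z
      rw [Derivation.leibniz_div, hδ x, hδ y]
      simp
    refine subsingleton_of_forall_eq 0 fun v => ?_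
    have hv : v ∈ Submodule.span K (Set.range (KaehlerDifferential.D L K)) :=
      (KaehlerDifferential.span_range_derivation L K).symm ▸ Submodule.mem_top
    have hle : Submodule.span K (Set.range (KaehlerDifferential.D L K)) ≤ ⊥ :=
      Submodule.span_le.2 (by rintro _ ⟨z, rfl⟩; exact (hD z).trans rfl)
    exact (Submodule.mem_bot K).1 (hle hv)
  haveI : Algebra.FormallyUnramified L K := ⟨inferInstance⟩
  haveI : Algebra.EssFiniteType B K := Algebra.EssFiniteType.of_isLocalization K (nonZeroDivisors B)
  haveI : Algebra.EssFiniteType k K := Algebra.EssFiniteType.comp k B K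
  haveI : Algebra.EssFiniteType L K := Algebra.EssFiniteType.of_comp k L K
  haveI : Module.Finite L K := Algebra.FormallyUnramified.finite_of_free L K
  haveI : Module.Finite k K := Module.Finite.trans L K
  haveI : FiniteDimensional k B :=
    FiniteDimensional.of_injective (IsScalarTower.toAlgHom k B K).toLinearMap (IsFractionRing.injective B K)
  exact hB (isField_of_isIntegral_of_isField' (R := k) (S := B) (Field.toIsField k))

/-- A transcendental function takes a rational value at some prime outside a given hypersurface. -/
theorem exists_prime_value [Infinite k] [Algebra.FiniteType k B] {a h : B} (ha : Transcendental k a) (hh : h ≠ 0) :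
    ∃ (c : k) (p : PrimeSpectrum B), h ∉ p.asIdeal ∧ a - algebraMap k B c ∈ p.asIdeal := by
  let φ : k[X] →ₐ[k] B := aeval a
  letI : Algebra k[X] B := φ.toAlgebra
  have hinj : Function.Injective φ := transcendental_iff_injective.1 ha
  haveI : IsScalarTower k k[X] B := IsScalarTower.of_algebraMap_eq fun r => (φ.commutes r).symm
  haveI : Algebra.FiniteType k[X] B := Algebra.FiniteType.of_restrictScalars_finiteType k k[X] B
  haveI : Algebra.FinitePresentation k[X] B := Algebra.FinitePresentation.of_finiteType.1 inferInstance
  haveI : Module.IsTorsionFree k[X] B := Module.isTorsionFree_iff_algebraMap_injective.2 hinj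
  haveI : Module.Flat k[X] B := inferInstance
  have hopen := PrimeSpectrum.isOpenMap_comap_of_hasGoingDown_of_finitePresentation (R := k[X]) (S := B)
  have hne : (PrimeSpectrum.comap (algebraMap k[X] B) '' (PrimeSpectrum.basicOpen h : Set (PrimeSpectrum B))).Nonempty :=
    ⟨_, ⟨⊥, Ideal.isPrime_bot⟩, fun h0 => hh ((Submodule.mem_bot B).1 h0), rfl⟩
  obtain ⟨_, ⟨g, rfl⟩, hq, hsub⟩ := (PrimeSpectrum.isTopologicalBasis_basic_opens (R := k[X])).exists_subset_of_mem_open
    hne.choose_spec (hopen _ (PrimeSpectrum.basicOpen h).2)
  have hg : g ≠ 0 := fun h0 => hq (h0 ▸ Submodule.zero_mem _)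
  obtain ⟨c, hc⟩ : ∃ c : k, g.eval c ≠ 0 := by
    by_contra! hall
    exact hg (zero_of_eval_zero g hall)
  let P : PrimeSpectrum k[X] := ⟨Ideal.span {X - C c}, (Ideal.span_singleton_prime (X_sub_C_ne_zero c)).2 (prime_X_sub_C c)⟩
  have hP : g ∉ P.asIdeal := fun h1 => hc (by
    obtain ⟨r, rfl⟩ := Ideal.mem_span_singleton.1 h1
    simp)
  obtain ⟨p, hp, hpP⟩ := hsub (show P ∈ (PrimeSpectrum.basicOpen g : Set (PrimeSpectrum k[X])) from hP)
  refine ⟨c, p, hp, ?_⟩
  have h2 : (X - C c : k[X]) ∈ (PrimeSpectrum.comap (algebraMap k[X] B) p).asIdeal := by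
    rw [hpP]
    exact Ideal.mem_span_singleton_self _
  have h3 : φ (X - C c) ∈ p.asIdeal := h2
  simpa [φ] using h3

end Groth.Agent.H29Jac.SepPoint
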