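import Groth.Agent.H29Jac.SepPoint.Alg
import Groth.Agent.H29CurveDual.ChartOmega
import Groth.Agent.H29CurveDual.Facts
import Groth.Agent.H29CurveDual.OmegaGen
import Groth.Agent.H29Blow.PointsOfAffine
import Groth.Agent.H11Ample.Basic

/-!
# Separable closed points where a function with nonzero differential takes a rational value
-/

set_option autoImplicit false
set_option linter.style.haveILetI false
set_option maxHeartbeats 800000

noncomputable section

universe u

open CategoryTheory CategoryTheory.Limits AlgebraicGeometry TopologicalSpace Opposite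

namespace Groth.Agent.H29Jac.SepPoint

attribute [local instance] Curv2.resAlgebra

open H29CurveDual (algK algR omEquiv omEquiv_D)

section lift

variable {k : Type u} [CommRing k] {X : Scheme.{u}} (p : X ⟶ Spec (CommRingCat.of k)) [QuasiSeparated p]

/-- Derivations on an affine open vanishing on constants factor through the differentials. -/
theorem exists_lift {U : X.Opens} (hU : IsAffineOpen U) {N : Type u} [AddCommGroup N] [Module Γ(X, U) N]
    (d : Γ(X, U) →+ N) (hmul : ∀ a b, d (a * b) = a • d b + b • d a)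
    (hconst : ∀ r : Γ(Spec (CommRingCat.of k), ⊤), d (p.appLE ⊤ U le_top r) = 0) :
    ∃ L : Γ(Omega.sheaf p, U) →ₗ[Γ(X, U)] N, ∀ b, L (OmegaSh.dSect p U b) = d b := by
  letI := algR p U
  letI : Module Γ(Spec (CommRingCat.of k), ⊤) N := Module.compHom N (p.appLE ⊤ U le_top).hom
  haveI : IsScalarTower Γ(Spec (CommRingCat.of k), ⊤) Γ(X, U) N := IsScalarTower.of_algebraMap_smul fun _ _ => rfl
  let δ : Derivation Γ(Spec (CommRingCat.of k), ⊤) Γ(X, U) N :=
    Derivation.mk'
      { toFun := d
        map_add' := map_add d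
        map_smul' := fun r b => by
          show d (p.appLE ⊤ U le_top r * b) = p.appLE ⊤ U le_top r • d b
          rw [hmul, hconst, smul_zero, add_zero] }
      hmul
  refine ⟨δ.liftKaehlerDifferential ∘ₗ (omEquiv p U hU).symm.toLinearMap, fun b => ?_⟩
  show δ.liftKaehlerDifferential ((omEquiv p U hU).symm (OmegaSh.dSect p U b)) = d b
  rw [← omEquiv_D p U hU b, LinearEquiv.symm_apply_apply, Derivation.liftKaehlerDifferential_comp_D]
  rfl

end lift

variable {k : Type u} [Field k] {X : Scheme.{u}} [X.Over (Spec (CommRingCat.of k))]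

local notation "𝖿" => X ↘ Spec (CommRingCat.of k)

/-- A linear form on differentials sends `d b` to the value of a derivation over the field. -/
theorem exists_lift_derivation [QuasiSeparated 𝖿] {U : X.Opens} (hU : IsAffineOpen U) :
    letI := algK 𝖿 U
    ∀ {N : Type u} [AddCommGroup N] [Module k N] [Module Γ(X, U) N] [IsScalarTower k Γ(X, U) N]
      (δ : Derivation k Γ(X, U) N),
      ∃ L : Γ(Omega.sheaf 𝖿, U) →ₗ[Γ(X, U)] N, ∀ b, L (OmegaSh.dSect 𝖿 U b) = δ b := by
  letI := algK 𝖿 U
  intro N _ _ _ _ δ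
  refine exists_lift 𝖿 hU δ.toLinearMap.toAddMonoidHom δ.leibniz fun r => ?_
  have h : (𝖿).appLE ⊤ U le_top r = algebraMap k Γ(X, U) ((Scheme.ΓSpecIso (CommRingCat.of k)).hom r) := by
    show _ = (𝖿).appLE ⊤ U le_top ((Scheme.ΓSpecIso (CommRingCat.of k)).inv ((Scheme.ΓSpecIso (CommRingCat.of k)).hom r))
    rw [Iso.hom_inv_id_apply]
  show δ ((𝖿).appLE ⊤ U le_top r) = 0
  rw [h]
  exact δ.map_algebraMap _

theorem dSect_const [QuasiSeparated 𝖿] {U : X.Opens} (hU : IsAffineOpen U) (c : k) :
    letI := algK 𝖿 U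
    OmegaSh.dSect 𝖿 U (algebraMap k Γ(X, U) c) = 0 := by
  letI := algK 𝖿 U
  letI := algR 𝖿 U
  rw [← omEquiv_D 𝖿 U hU]
  exact (congrArg _ ((KaehlerDifferential.D Γ(Spec (CommRingCat.of k), ⊤) Γ(X, U)).map_algebraMap
    ((Scheme.ΓSpecIso (CommRingCat.of k)).inv c))).trans (map_zero _)

/-- The value at a point of a constant. -/
theorem residue_const {U : X.Opens} {x : X} (hx : x ∈ U) (c : k) :
    X.residue x (X.presheaf.germ U x hx ((algK 𝖿 U).algebraMap c)) = Curv2.resMap k X x c := by
  show X.residue x (X.presheaf.germ U x hx ((𝖿).appLE ⊤ U le_top ((Scheme.ΓSpecIso (CommRingCat.of k)).inv c))) =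
    X.residue x (X.presheaf.germ ⊤ x trivial ((𝖿).appTop ((Scheme.ΓSpecIso (CommRingCat.of k)).inv c)))
  refine congrArg (X.residue x) ?_
  show X.presheaf.germ U x hx (((𝖿).app ⊤ ≫ X.presheaf.map (homOfLE _).op) _) = _
  rw [CommRingCat.comp_apply]
  exact TopCat.Presheaf.germ_res_apply _ _ _ _ _

variable [IsIntegral X] [IsProper (X ↘ Spec (CommRingCat.of k))] [Smooth (X ↘ Spec (CommRingCat.of k))]

/-- Where the differentials are generated by `ε` and `a` has nonzero differential, `a` takes a value in `k`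
at a closed point with separable residue field. -/
theorem exists_point_value [Infinite k] (hdim : topologicalKrullDim X = 1) {U : X.Opens} (hU : IsAffineOpen U)
    [Nonempty U] (ε : Γ(Omega.sheaf 𝖿, U)) (hε : H11Tilde.IsGen (Omega.sheaf 𝖿) ε) (a : Γ(X, U))
    (ha : OmegaSh.dSect 𝖿 U a ≠ 0) :
    ∃ (x : X) (_ : x ∈ U) (c : k), IsClosed ({x} : Set X) ∧ Algebra.IsSeparable k (X.residueField x) ∧
      x ∉ X.basicOpen (a - (algK 𝖿 U).algebraMap c) ∧ a - (algK 𝖿 U).algebraMap c ≠ 0 := by
  letI := algK 𝖿 U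
  haveI := H29CurveDual.smooth_algK 𝖿 hU
  haveI : IsDomain Γ(X, U) := inferInstance
  choose cf hcf using fun b : Γ(X, U) => H11Ample.exists_coeff hε (OmegaSh.dSect 𝖿 U b)
  have hh : cf a ≠ 0 := fun h0 => ha (by rw [hcf a, h0, zero_smul])
  have hrel : ∀ b : Γ(X, U), cf a • OmegaSh.dSect 𝖿 U b = cf b • OmegaSh.dSect 𝖿 U a := fun b => by
    rw [hcf a, hcf b, smul_smul, smul_smul, mul_comm]
  have hrelN : ∀ (N : Type u) [AddCommGroup N] [Module k N] [Module Γ(X, U) N] [IsScalarTower k Γ(X, U) N]
      (δ : Derivation k Γ(X, U) N) (b : Γ(X, U)), cf a • δ b = cf b • δ a := fun N _ _ _ _ δ b => by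
    obtain ⟨L, hL⟩ := exists_lift_derivation hU δ
    rw [← hL b, ← hL a, ← map_smul, ← map_smul, hrel b]
  have htr := transcendental_of_rel (H29CurveDual.not_isField_sections 𝖿 hdim U hU) a (cf a) hh cf hrelN
  obtain ⟨c, q, hq, hqa⟩ := exists_prime_value htr hh
  obtain ⟨⟨x, hxU⟩, rfl⟩ := H29Blow.exists_primeIdealOf_eq hU q
  have hac : a - algebraMap k Γ(X, U) c ≠ 0 := fun h0 => htr (by
    rw [sub_eq_zero.1 h0]
    exact isAlgebraic_algebraMap c)
  rw [H29Blow.mem_primeIdealOf_iff, ← X.mem_basicOpen] at hqa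
  rw [H29Blow.mem_primeIdealOf_iff, not_not, ← X.mem_basicOpen] at hq
  have hx : IsClosed ({x} : Set X) := by
    rcases H29Curve.isClosed_singleton_or_eq_genericPoint hdim.le x with h | h
    · exact h
    · refine absurd ?_ hqa
      subst h
      refine ((genericPoint_spec X).mem_open_set_iff (X.basicOpen _).isOpen).2 ?_
      obtain ⟨y, hy⟩ := Set.nonempty_iff_ne_empty.2 fun he : ((X.basicOpen (a - algebraMap k Γ(X, U) c) : X.Opens) : Set X) = ∅ =>
        hac (eq_zero_of_basicOpen_eq_bot _ (TopologicalSpace.Opens.ext he))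
      exact ⟨y, trivial, hy⟩
  refine ⟨x, hxU, c, hx, ?_, hqa, hac⟩
  haveI : FiniteDimensional k (X.residueField x) :=
    Module.finite_of_finrank_pos (H29CurveDual.residue_finrank_pos (k := k) hx)
  let ev : Γ(X, U) →+* X.residueField x := (X.residue x).hom.comp (X.presheaf.germ U x hxU).hom
  let evA : Γ(X, U) →ₐ[k] X.residueField x := { ev with commutes' := fun r => residue_const hxU r }
  letI : Algebra Γ(X, U) (X.residueField x) := ev.toAlgebra
  haveI : IsScalarTower k Γ(X, U) (X.residueField x) := IsScalarTower.of_algebraMap_eq fun r => (residue_const hxU r).symm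
  let D := KaehlerDifferential.D k (X.residueField x)
  let δ : Derivation k Γ(X, U) Ω[X.residueField x⁄k] := D.compAlgebraMap Γ(X, U)
  have hunit : ∀ f : Γ(X, U), x ∈ X.basicOpen f → ev f ≠ 0 := fun f hf =>
    (((X.mem_basicOpen f x hxU).1 hf).map (X.residue x).hom).ne_zero
  have hea : ev (a - algebraMap k Γ(X, U) c) = 0 := by
    rw [RingHom.comp_apply]
    refine (IsLocalRing.residue_eq_zero_iff _).2 ((IsLocalRing.mem_maximalIdeal _).2 fun hu => hqa ?_)
    exact (X.mem_basicOpen _ x hxU).2 hu
  have hDa : δ a = 0 := by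
    show D (ev a) = 0
    rw [map_sub, sub_eq_zero] at hea
    rw [hea]
    show D (ev ((algK 𝖿 U).algebraMap c)) = 0
    rw [show ev ((algK 𝖿 U).algebraMap c) = algebraMap k (X.residueField x) c from residue_const hxU c]
    exact D.map_algebraMap c
  have hDb : ∀ b, D (ev b) = 0 := fun b => by
    have h1 := hrelN _ δ b
    rw [hDa, smul_zero, ← IsScalarTower.algebraMap_smul (X.residueField x) (cf a) (δ b), smul_eq_zero] at h1
    exact h1.resolve_left (hunit _ hq)
  have hD : ∀ z, D z = 0 := fun z => by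
    obtain ⟨w, rfl⟩ := X.residue_surjective x z
    letI := TopCat.Presheaf.algebra_section_stalk X.presheaf (⟨x, hxU⟩ : U)
    haveI := hU.isLocalization_stalk ⟨x, hxU⟩
    obtain ⟨⟨f, g⟩, hfg⟩ := IsLocalization.surj (hU.primeIdealOf ⟨x, hxU⟩).asIdeal.primeCompl w
    have h2 : X.residue x w * ev g.1 = ev f := by
      have := congrArg (X.residue x) hfg
      rw [map_mul] at this
      exact this
    have hg : ev g.1 ≠ 0 := hunit _ ((X.mem_basicOpen _ x hxU).2 (by
      have := (H29Blow.mem_primeIdealOf_iff hU ⟨x, hxU⟩ g.1).not.1 g.2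
      exact not_not.1 this))
    rw [eq_div_of_mul_eq hg h2, Derivation.leibniz_div, hDb f, hDb g.1]
    simp
  haveI : Subsingleton Ω[X.residueField x⁄k] := by
    refine subsingleton_of_forall_eq 0 fun v => ?_
    have hv : v ∈ Submodule.span (X.residueField x) (Set.range D) :=
      (KaehlerDifferential.span_range_derivation k (X.residueField x)).symm ▸ Submodule.mem_top
    have hle : Submodule.span (X.residueField x) (Set.range D) ≤ ⊥ :=
      Submodule.span_le.2 (by rintro _ ⟨z, rfl⟩; exact (hD z).trans rfl)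
    exact (Submodule.mem_bot (X.residueField x)).1 (hle hv)
  haveI : Algebra.FormallyUnramified k (X.residueField x) := ⟨inferInstance⟩
  exact Algebra.FormallyUnramified.isSeparable k (X.residueField x)

end Groth.Agent.H29Jac.SepPoint
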